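import Groth.Agent.H02CA.CohAuto.Heart

/-!
# The auto-equivalence of coherent modules induced by a functor fixing the points
-/

set_option autoImplicit false
set_option linter.style.haveILetI false
set_option backward.isDefEq.respectTransparency false
set_option maxHeartbeats 800000

universe u

open CategoryTheory CategoryTheory.Limits AlgebraicGeometry Opposite

attribute [local instance] HasDerivedCategory.standard

noncomputable section

namespace Groth.Agent.H02CA.CohAuto

open Groth.Agent.H16Derived DerivedCategory.TStructure Groth.Agent.H17.CohInd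

variable {k : Type u} [Field k] {X : Scheme.{u}} [X.Over (Spec (.of k))] [IsProper (X ↘ Spec (.of k))]
  [(SGA6.perfP X).IsTriangulated]

/-- Coherent modules as perfect objects, given perfectness. -/
abbrev toP (hp : ∀ M : X.Modules, Coh.IsCoh M → DCoh.IsPerfect (DCoh.inD X M)) :
    CohCat X ⥤ (SGA6.perfP X).FullSubcategory :=
  ObjectProperty.lift (SGA6.perfP X)
    (ObjectProperty.ι (fun M : X.Modules => Coh.IsCoh M) ⋙ DerivedCategory.singleFunctor X.Modules 0)
    fun M => hp M.obj M.property

variable (F : (SGA6.perfP X).FullSubcategory ⥤ (SGA6.perfP X).FullSubcategory) [F.CommShift ℤ] [F.Additive]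
  [F.Linear k] [F.IsEquivalence] (hp : ∀ M : X.Modules, Coh.IsCoh M → DCoh.IsPerfect (DCoh.inD X M))

/-- The composite with values in the derived category. -/
abbrev G₁ : CohCat X ⥤ DCoh.D X := toP hp ⋙ F ⋙ (SGA6.perfP X).ι

include k in
theorem exists_coh_equivalence (hreg : Models.IsRegularScheme X) (hfix : FixSky F) :
    ∃ (L : CohCat X ≌ CohCat X),
      Nonempty ((L.functor ⋙ ObjectProperty.ι (fun M : X.Modules => Coh.IsCoh M)) ⋙
        DerivedCategory.singleFunctor X.Modules 0 ≅ G₁ F hp) ∧
      ∀ (M : CohCat X) (c : k), (L.functor.map (ObjectProperty.homMk (Formal.smulMod k M.obj c) : M ⟶ M)).hom =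
        Formal.smulMod k (L.functor.obj M).obj c := by
  haveI : IsLocallyNoetherian X := LocallyOfFiniteType.isLocallyNoetherian (X ↘ Spec (.of k))
  haveI : CompactSpace X := QuasiCompact.compactSpace_of_compactSpace (X ↘ Spec (.of k))
  let S := DerivedCategory.singleFunctor X.Modules 0
  let G := G₁ F hp
  have hmem : ∀ M : CohCat X, S.essImage (G.obj M) := fun M => by
    obtain ⟨h1, h2⟩ := mem_heart (k := k) F hreg hfix M.obj (hp M.obj M.property)
    haveI := h1; haveI := h2
    obtain ⟨N, ⟨e⟩⟩ := DerivedCategory.exists_iso_singleFunctor_obj_of_isGE_of_isLE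
      (F.obj ⟨DCoh.inD X M.obj, hp M.obj M.property⟩).obj 0
    exact ⟨N, ⟨e.symm⟩⟩
  let L₁ : CohCat X ⥤ X.Modules := Functor.essImage.liftFunctor G S hmem
  let c₁ : L₁ ⋙ S ≅ G := Functor.essImage.liftFunctorCompIso G S hmem
  have hcoh : ∀ M, Coh.IsCoh (L₁.obj M) := fun M =>
    H10Coh.isCoh_of_iso ((DerivedCategory.homologyFunctor _ 0).mapIso (c₁.app M).symm ≪≫
      (DerivedCategory.singleFunctorCompHomologyFunctorIso X.Modules 0).app (L₁.obj M))
      (FMKWit.isCohD_of_isPerfect (F.obj ((toP hp).obj M)).property 0)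
  let Lc : CohCat X ⥤ CohCat X := ObjectProperty.lift _ L₁ hcoh
  haveI : (toP hp).Full := inferInstance
  haveI : L₁.Faithful := by
    haveI : (L₁ ⋙ S).Faithful := Functor.Faithful.of_iso c₁.symm
    exact Functor.Faithful.of_comp L₁ S
  haveI : L₁.Full := by
    haveI : (L₁ ⋙ S).Full := Functor.Full.of_iso c₁.symm
    exact Functor.Full.of_comp_faithful L₁ S
  haveI : Lc.EssSurj := ⟨fun N => by
    let A := (toP hp).obj N
    let B := F.objPreimage A
    let e : F.obj B ≅ A := F.objObjPreimageIso A
    have hfix' : FixSky F.inv := fun x hx hp' => by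
      obtain ⟨e'⟩ := hfix x hx hp'
      exact ⟨F.inv.mapIso e'.symm ≪≫ (F.asEquivalence.unitIso.app _).symm⟩
    letI : F.asEquivalence.functor.CommShift ℤ := ‹F.CommShift ℤ›
    letI : F.inv.CommShift ℤ := F.asEquivalence.commShiftInverse ℤ
    haveI : F.asEquivalence.functor.Additive := ‹F.Additive›
    haveI : F.inv.Additive := F.asEquivalence.inverse_additive
    obtain ⟨h1, h2⟩ := mem_heart (k := k) F.inv hreg hfix' N.obj (hp N.obj N.property)
    haveI := h1; haveI := h2
    let C := F.inv.obj ⟨DCoh.inD X N.obj, hp N.obj N.property⟩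
    obtain ⟨M, ⟨eM⟩⟩ := DerivedCategory.exists_iso_singleFunctor_obj_of_isGE_of_isLE C.obj 0
    have hM : Coh.IsCoh M := H10Coh.isCoh_of_iso
      ((DerivedCategory.homologyFunctor _ 0).mapIso eM ≪≫
        (DerivedCategory.singleFunctorCompHomologyFunctorIso X.Modules 0).app M)
      (FMKWit.isCohD_of_isPerfect C.property 0)
    let M' : CohCat X := ⟨M, hM⟩
    refine ⟨M', ⟨(ObjectProperty.fullyFaithfulι _).preimageIso ((Functor.FullyFaithful.ofFullyFaithful S).preimageIso ?_)⟩⟩
    exact c₁.app M' ≪≫ (SGA6.perfP X).ι.mapIso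
      (F.mapIso ((ObjectProperty.fullyFaithfulι _).preimageIso (eM.symm) : (toP hp).obj M' ≅ C) ≪≫
        F.asEquivalence.counitIso.app _)⟩
  haveI : Lc.IsEquivalence := { }
  refine ⟨Lc.asEquivalence, ⟨c₁⟩, fun M c => ?_⟩
  apply S.map_injective
  have h := c₁.hom.naturality (ObjectProperty.homMk (Formal.smulMod k M.obj c) : M ⟶ M)
  have hG : G.map (ObjectProperty.homMk (Formal.smulMod k M.obj c) : M ⟶ M) = c • 𝟙 (G.obj M) := by
    show (F.map ((toP hp).map (ObjectProperty.homMk (Formal.smulMod k M.obj c) : M ⟶ M))).hom = _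
    have h1 : (toP hp).map (ObjectProperty.homMk (Formal.smulMod k M.obj c) : M ⟶ M) = c • 𝟙 ((toP hp).obj M) :=
      ObjectProperty.hom_ext _ (by
        show S.map (Formal.smulMod k M.obj c) = c • 𝟙 (S.obj M.obj)
        rw [← KLin.smul_id, Functor.map_smul, CategoryTheory.Functor.map_id])
    rw [h1, Functor.map_smul, CategoryTheory.Functor.map_id]
    rfl
  show S.map (L₁.map (ObjectProperty.homMk (Formal.smulMod k M.obj c) : M ⟶ M)) = S.map (Formal.smulMod k (L₁.obj M) c)
  rw [← KLin.smul_id (L₁.obj M) c, Functor.map_smul, CategoryTheory.Functor.map_id]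
  rw [Functor.comp_map, hG] at h
  rw [← cancel_mono (c₁.hom.app M), h, Linear.comp_smul, Category.comp_id, Linear.smul_comp, Category.id_comp]

end Groth.Agent.H02CA.CohAuto
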