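import Groth.Agent.H02CA.SkyExt.FixPoints
import Groth.Agent.H02CA.SkyExt.EssImage
import Groth.Agent.S1005
import Groth.Agent.H17.CohInd.Scheme

/-!
# A functor fixing the points preserves coherent modules
-/

set_option autoImplicit false
set_option linter.style.haveILetI false
set_option backward.isDefEq.respectTransparency false
set_option maxHeartbeats 800000

universe u

open CategoryTheory CategoryTheory.Limits AlgebraicGeometry Opposite

attribute [local instance] HasDerivedCategory.standard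

noncomputable section

namespace Groth.Agent.H02CA.CohAuto

open Groth.Agent.H16Derived DerivedCategory.TStructure

variable {k : Type u} [Field k] {X : Scheme.{u}} [X.Over (Spec (.of k))] [IsProper (X ↘ Spec (.of k))]
  [(SGA6.perfP X).IsTriangulated]

/-- `F` fixes the point sheaves. -/
def FixSky (F : (SGA6.perfP X).FullSubcategory ⥤ (SGA6.perfP X).FullSubcategory) : Prop :=
  ∀ (x : X), IsClosed ({x} : Set X) → ∀ hx : DCoh.IsPerfect (DCoh.inD X (Sky.skyM x)),
    Nonempty (F.obj ⟨DCoh.inD X (Sky.skyM x), hx⟩ ≅ ⟨DCoh.inD X (Sky.skyM x), hx⟩)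

variable (F : (SGA6.perfP X).FullSubcategory ⥤ (SGA6.perfP X).FullSubcategory) [F.CommShift ℤ]

include k in
theorem isLE_map [F.Full] (hreg : Models.IsRegularScheme X) (hfix : FixSky F)
    (B : (SGA6.perfP X).FullSubcategory) (n : ℤ) [B.obj.IsLE n] : (F.obj B).obj.IsLE n := by
  haveI : IsLocallyNoetherian X := LocallyOfFiniteType.isLocallyNoetherian (X ↘ Spec (.of k))
  haveI : CompactSpace X := QuasiCompact.compactSpace_of_compactSpace (X ↘ Spec (.of k))
  haveI : IsNoetherian X := { }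
  haveI : JacobsonSpace X := LocallyOfFiniteType.jacobsonSpace (X ↘ Spec (.of k))
  let P := (SGA6.perfP X).FullSubcategory
  let E := (F.obj B).obj
  have hE : DCoh.IsPerfect E := (F.obj B).property
  have hcoh := FMKWit.isCohD_of_isPerfect hE
  obtain ⟨a, c, ha, hc⟩ := FMKWit.exists_bounds_of_isPerfect hE
  haveI := ha; haveI := hc
  refine (DerivedCategory.isLE_iff _ _).2 fun i hi => (Thomason.isZero_hd_iff _ i).2 ?_
  by_contra hne
  obtain ⟨y, hy, hyc⟩ := nonempty_inter_closedPoints (Set.nonempty_iff_ne_empty.2 hne)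
    (H10Coh.isClosed_support _ (hcoh i).2).isLocallyClosed
  refine ((Sky.stalks_vanish_iff y hyc E hcoh c n).2 (fun j hj φ => ?_) i hi) hy
  let hp : DCoh.IsPerfect (DCoh.inD X (Sky.skyM y)) := Spanning.isPerfect_sky hreg y hyc
  let s : P := ⟨DCoh.inD X (Sky.skyM y), hp⟩
  obtain ⟨e⟩ := hfix y hyc hp
  let c' : (s⟦-j⟧ : P).obj ≅ (DCoh.inD X (Sky.skyM y))⟦-j⟧ := ((SGA6.perfP X).ι.commShiftIso (-j)).app s
  let ε : F.obj (s⟦-j⟧) ≅ s⟦-j⟧ := (F.commShiftIso (-j)).app s ≪≫ (shiftFunctor P (-j)).mapIso e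
  let ψ : F.obj B ⟶ F.obj (s⟦-j⟧) := ObjectProperty.homMk (φ ≫ c'.inv) ≫ ε.inv
  have hg : (F.preimage ψ).hom ≫ c'.hom = 0 := by
    haveI : t.IsLE B.obj n := ‹B.obj.IsLE n›
    haveI : t.IsGE (DCoh.inD X (Sky.skyM y)) 0 := inferInstanceAs (DerivedCategory.IsGE _ _)
    haveI : t.IsGE ((DCoh.inD X (Sky.skyM y))⟦-j⟧) j := t.isGE_shift _ 0 (-j) j (by omega)
    exact t.zero _ n j hj
  have hg' : F.preimage ψ = 0 := ObjectProperty.hom_ext _ (by
    rw [Preadditive.IsIso.comp_right_eq_zero] at hg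
    exact hg)
  have hψ : ψ = 0 := by rw [← F.map_preimage ψ, hg', Functor.map_zero]
  have h1 : (ObjectProperty.homMk (φ ≫ c'.inv) : F.obj B ⟶ s⟦-j⟧) = 0 :=
    (cancel_mono ε.inv).1 (hψ.trans zero_comp.symm)
  have h2 : φ ≫ c'.inv = 0 := congrArg (fun t => t.hom) h1
  exact (cancel_mono c'.inv).1 (h2.trans zero_comp.symm)

include k in
/-- The image of a coherent module is a module. -/
theorem mem_heart [F.IsEquivalence] [F.Additive] (hreg : Models.IsRegularScheme X) (hfix : FixSky F) (M : X.Modules)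
    (hp : DCoh.IsPerfect (DCoh.inD X M)) :
    (F.obj ⟨DCoh.inD X M, hp⟩).obj.IsLE 0 ∧ (F.obj ⟨DCoh.inD X M, hp⟩).obj.IsGE 0 := by
  haveI : IsLocallyNoetherian X := LocallyOfFiniteType.isLocallyNoetherian (X ↘ Spec (.of k))
  haveI : CompactSpace X := QuasiCompact.compactSpace_of_compactSpace (X ↘ Spec (.of k))
  let P := (SGA6.perfP X).FullSubcategory
  let A : P := ⟨DCoh.inD X M, hp⟩
  haveI : A.obj.IsLE 0 := inferInstanceAs (DerivedCategory.IsLE _ _)
  haveI hle := isLE_map (k := k) F hreg hfix A 0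
  refine ⟨hle, (DerivedCategory.isGE_iff _ _).2 fun j hj => ?_⟩
  let E := (F.obj A).obj
  haveI : t.IsLE E 0 := hle
  obtain ⟨a, b, ha, hb⟩ := FMKWit.exists_bounds_of_isPerfect (F.obj A).property
  haveI := ha
  let E' := (t.truncLT 0).obj E
  haveI : E'.IsGE a := DTrunc.isGE_truncLT E 0 a
  haveI : E'.IsLE (-1) := t.isLE_truncLT_obj E 0 (-1)
  have hcoh : DCoh.IsCohD E' := fun i => by
    rcases lt_or_ge i 0 with hi | hi
    · haveI := DTrunc.isIso_homology_truncLTι E 0 i hi
      exact H10Coh.isCoh_of_iso (asIso ((DerivedCategory.homologyFunctor _ i).map ((t.truncLTι 0).app E))).symm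
        (FMKWit.isCohD_of_isPerfect (F.obj A).property i)
    · exact H16Derived.Dual.isCoh_isZero (DerivedCategory.isZero_of_isLE E' (-1) i (by omega))
  let T : P := ⟨E', S1005.result X hreg E' a (-1) hcoh⟩
  let ι' : T ⟶ F.obj A := ObjectProperty.homMk ((t.truncLTι 0).app E)
  let S := F.objPreimage T
  let e : F.obj S ≅ T := F.objObjPreimageIso T
  haveI : S.obj.IsLE (-1) := by
    have hfix' : FixSky F.inv := fun x hx hp' => by
      obtain ⟨e'⟩ := hfix x hx hp'
      exact ⟨F.inv.mapIso e'.symm ≪≫ (F.asEquivalence.unitIso.app _).symm⟩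
    letI : F.asEquivalence.functor.CommShift ℤ := ‹F.CommShift ℤ›
    letI : F.inv.CommShift ℤ := F.asEquivalence.commShiftInverse ℤ
    haveI : T.obj.IsLE (-1) := inferInstanceAs (E'.IsLE (-1))
    haveI : (F.inv.obj T).obj.IsLE (-1) := isLE_map (k := k) F.inv hreg hfix' T (-1)
    haveI : t.IsLE ((SGA6.perfP X).ι.obj (F.inv.obj T)) (-1) := ‹(F.inv.obj T).obj.IsLE (-1)›
    exact t.isLE_of_iso ((SGA6.perfP X).ι.mapIso
      (F.inv.mapIso e.symm ≪≫ (F.asEquivalence.unitIso.app S).symm)) (-1)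
  have h0 : F.preimage (e.hom ≫ ι') = 0 := ObjectProperty.hom_ext _ (by
    haveI : t.IsLE S.obj (-1) := ‹_›
    haveI : t.IsGE A.obj 0 := inferInstanceAs (DerivedCategory.IsGE _ _)
    exact t.zero _ (-1) 0 (by omega))
  have h1 : ι' = 0 := by
    have := F.map_preimage (e.hom ≫ ι')
    rw [h0, Functor.map_zero] at this
    exact (cancel_epi e.hom).1 (this.symm.trans comp_zero.symm)
  have h2 : (t.truncLTι 0).app E = 0 := congrArg (fun t => t.hom) h1
  haveI hi : IsIso ((DerivedCategory.homologyFunctor X.Modules j).map ((t.truncLTι 0).app E)) :=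
    DTrunc.isIso_homology_truncLTι E 0 j hj
  rw [h2, Functor.map_zero] at hi
  exact (IsZero.iff_id_eq_zero _).2 ((isIsoZeroEquiv _ _) hi).2

end Groth.Agent.H02CA.CohAuto
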