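import Groth.Agent.H02CA.CohAuto.Equiv
import Groth.Agent.H17.GabRos.Main
import Groth.Agent.H02CA.VBPn.Extend
import Groth.Agent.H24Quot.Scalars
import Groth.Agent.H25Euler.Mult
import Groth.Agent.LeadProper.Supp
import Groth.Agent.H11Ample.RelQuasiAffine
import Groth.Agent.H16Derived.KFlat.SheafDerived

/-!
# A functor fixing the zero-dimensional modules is a twist on coherent modules
-/

set_option autoImplicit false
set_option linter.style.haveILetI false
set_option backward.isDefEq.respectTransparency false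
set_option maxHeartbeats 1000000

universe u

open CategoryTheory CategoryTheory.Limits AlgebraicGeometry Opposite

attribute [local instance] HasDerivedCategory.standard

noncomputable section

namespace Groth.Agent.H02CA.CohAuto

open Groth.Agent.H16Derived DerivedCategory.TStructure Groth.Agent.H17.CohInd Groth.Agent.H29RR

/-- An automorphism of a Jacobson scheme fixing the closed points is the identity on points. -/
theorem fix_of_fix_closed {X : Scheme.{u}} [JacobsonSpace X] (f : X ≅ X)
    (h : ∀ x : X, IsClosed ({x} : Set X) → f.hom.base x = x) (x : X) : f.hom.base x = x := by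
  let φ := Scheme.homeoOfIso f
  have hS : φ '' closure {x} = closure {x} := by
    have h1 : IsClosed (φ '' closure {x}) := φ.isClosedMap _ isClosed_closure
    refine (JacobsonSpace.closure_inter_closedPoints h1).symm.trans (Eq.trans ?_
      (JacobsonSpace.closure_inter_closedPoints (isClosed_closure (s := ({x} : Set X)))))
    congr 1
    ext z
    constructor
    · rintro ⟨⟨w, hw, rfl⟩, hzc⟩
      have hwc : IsClosed ({w} : Set X) := by
        have : IsClosed (φ ⁻¹' {φ w}) := hzc.preimage φ.continuous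
        rwa [show φ ⁻¹' {φ w} = {w} from Set.ext fun a => φ.injective.eq_iff] at this
      rw [show φ w = w from h w hwc]
      exact ⟨hw, hwc⟩
    · rintro ⟨hz, hzc⟩
      exact ⟨⟨z, hz, h z hzc⟩, hzc⟩
  rw [φ.image_closure, Set.image_singleton] at hS
  exact (inseparable_iff_closure_eq.2 hS).eq

/-- Scalars through twisting by an invertible module are determined. -/
theorem eq_of_twist {X : Scheme.{u}} {L A : X.Modules} (hL : PicF.IsInvertible L)
    (e : A ≅ Coh.structureModule X) (g g' : Coh.Γtop X)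
    (h : Formal.smulModΓ (CohB1.tensorMod A L) g = Formal.smulModΓ (CohB1.tensorMod A L) g') : g = g' := by
  obtain ⟨N, -, ⟨i⟩⟩ := H29RR.exists_inverse_comm hL
  have hA : Formal.smulModΓ A g = Formal.smulModΓ A g' := by
    have h1 := congrArg (fun t => (twist N).map t) h
    simp only [VBPn.twist_map_smulModΓ] at h1
    apply (cancel_epi ((twistInv i).hom.app A)).1
    refine (KLin.comp_smulModΓ ((twistInv i).hom.app A) g).trans ?_
    refine Eq.trans ?_ (KLin.comp_smulModΓ ((twistInv i).hom.app A) g').symm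
    exact congrArg (· ≫ (twistInv i).hom.app A) h1
  have hO : Formal.smulModΓ (Coh.structureModule X) g = Formal.smulModΓ (Coh.structureModule X) g' := by
    apply (cancel_epi e.hom).1
    rw [KLin.comp_smulModΓ, KLin.comp_smulModΓ, hA]
  have h2 := congrArg (fun t => (t.app (⊤ : X.Opens)).hom (1 : Γ(X, ⊤))) hO
  change X.presheaf.map (homOfLE (le_top : (⊤ : X.Opens) ≤ ⊤)).op g * 1 =
    X.presheaf.map (homOfLE (le_top : (⊤ : X.Opens) ≤ ⊤)).op g' * 1 at h2
  rw [mul_one, mul_one, show (homOfLE (le_top : (⊤ : X.Opens) ≤ ⊤)).op = 𝟙 _ from Subsingleton.elim _ _,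
    CategoryTheory.Functor.map_id] at h2
  exact h2

variable {k : Type u} [Field k] {X : Scheme.{u}} [X.Over (Spec (.of k))] [IsProper (X ↘ Spec (.of k))]
  [(SGA6.perfP X).IsTriangulated]
  (F : (SGA6.perfP X).FullSubcategory ⥤ (SGA6.perfP X).FullSubcategory) [F.Additive] [F.Linear k]
  [F.CommShift ℤ] [F.IsTriangulated]

include k in
theorem fixSky_of (hreg : Models.IsRegularScheme X)
    (h : ∀ (M : X.Modules), Coh.IsCoh M → (CohB1.support M).Finite → (CohB1.support M).Nonempty →
        (∀ x ∈ CohB1.support M, IsClosed ({x} : Set X)) →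
        ∀ (hM : DCoh.IsPerfect (DCoh.inD X M)),
          Nonempty ((⟨DCoh.inD X M, hM⟩ : (SGA6.perfP X).FullSubcategory) ≅ F.obj ⟨DCoh.inD X M, hM⟩)) :
    FixSky F := fun x hx hp => by
  haveI : IsClosedImmersion (X.fromSpecResidueField x) := isClosed_singleton_iff_isClosedImmersion.mp hx
  have hs : CohB1.support (Sky.skyM x) ⊆ {x} := fun y hy => by
    by_contra hne
    exact Sky.support_skyM hx hne hy
  have hmem : x ∈ CohB1.support (Sky.skyM x) := fun hsub => by
    haveI : Subsingleton ((Sky.skyM x).presheaf.stalk x) := hsub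
    exact (Sky.oneGerm_ne_zero (x := x)) (Subsingleton.elim _ _)
  haveI : IsLocallyNoetherian X := LocallyOfFiniteType.isLocallyNoetherian (X ↘ Spec (.of k))
  obtain ⟨e⟩ := h (Sky.skyM x) (H10Coh.isCoh_push_of_isFinite _ _ (H10Coh.isCoh_structureModule' _))
    ((Set.finite_singleton x).subset hs) ⟨x, hmem⟩ (fun y hy => (hs hy).symm ▸ hx) hp
  exact ⟨e.symm⟩

include k in
/-- A functor fixing the zero-dimensional modules is an equivalence. -/
theorem isEquivalence_of_fix (hreg : Models.IsRegularScheme X)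
    (h : ∀ (M : X.Modules), Coh.IsCoh M → (CohB1.support M).Finite → (CohB1.support M).Nonempty →
        (∀ x ∈ CohB1.support M, IsClosed ({x} : Set X)) →
        ∀ (hM : DCoh.IsPerfect (DCoh.inD X M)),
          Nonempty ((⟨DCoh.inD X M, hM⟩ : (SGA6.perfP X).FullSubcategory) ≅ F.obj ⟨DCoh.inD X M, hM⟩)) :
    F.IsEquivalence := by
  obtain ⟨hf, hf'⟩ := SkyExt.fullyFaithful_of_fix (k := k) F hreg h
  haveI := hf; haveI := hf'
  haveI : F.EssSurj := ⟨fun M => SkyExt.mem_essImage_of_agree (k := k) F (𝟭 _) hreg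
    (fun N hN h₁ h₂ h₃ hp => ⟨(h N hN h₁ h₂ h₃ hp).some.symm⟩) M⟩
  exact { }

include k in
theorem exists_twist (hreg : Models.IsRegularScheme X) [F.IsEquivalence] (hfix : FixSky F) :
    ∃ (f : X ≅ X) (_ : f.hom ≫ (X ↘ Spec (.of k)) = X ↘ Spec (.of k)) (_ : ∀ x : X, f.hom.base x = x)
      (L : X.Modules) (_ : PicF.IsInvertible L)
      (hp : ∀ M : X.Modules, Coh.IsCoh M → DCoh.IsPerfect (DCoh.inD X M)),
      Nonempty (G₁ F hp ≅ (ObjectProperty.ι (fun M : X.Modules => Coh.IsCoh M) ⋙
        Scheme.Modules.pullback f.hom ⋙ DCoh.tensorRightMod L) ⋙ DerivedCategory.singleFunctor X.Modules 0) := by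
  haveI : IsLocallyNoetherian X := LocallyOfFiniteType.isLocallyNoetherian (X ↘ Spec (.of k))
  haveI : CompactSpace X := QuasiCompact.compactSpace_of_compactSpace (X ↘ Spec (.of k))
  haveI : IsNoetherian X := { }
  haveI : JacobsonSpace X := LocallyOfFiniteType.jacobsonSpace (X ↘ Spec (.of k))
  have hp : ∀ M : X.Modules, Coh.IsCoh M → DCoh.IsPerfect (DCoh.inD X M) :=
    fun M hM => Spanning.isPerfect_inD_of_isCoh hreg hM
  obtain ⟨Le, ⟨c₁⟩, hsmul⟩ := exists_coh_equivalence (k := k) F hp hreg hfix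
  obtain ⟨e, ⟨i⟩⟩ := H17.CohInd.exists_equivalence_qcoh Le
  obtain ⟨f, L, hL, ⟨γ⟩⟩ := H17.GabRos.gabriel_rosenberg e
  let T := ObjectProperty.ι (fun M : X.Modules => Coh.IsCoh M) ⋙ Scheme.Modules.pullback f.hom ⋙ DCoh.tensorRightMod L
  let η : Le.functor ⋙ ObjectProperty.ι (fun M : X.Modules => Coh.IsCoh M) ≅ T :=
    Functor.isoWhiskerRight i.symm (QCohCat.isQCoh X).ι ≪≫ Functor.isoWhiskerLeft (toQCoh X) γ
  -- the automorphism is over `k`
  have hk : f.hom ≫ (X ↘ Spec (.of k)) = X ↘ Spec (.of k) := by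
    apply ext_of_isAffine
    let O : CohCat X := ⟨Coh.structureModule X, H10Coh.isCoh_structureModule' X⟩
    obtain ⟨eO⟩ := H11Ample.nonempty_pullback_structureModule_iso f.hom
    have hsc : ∀ c : k, f.hom.appTop (Coh.toGlobal (X ↘ Spec (.of k)) c) = Coh.toGlobal (X ↘ Spec (.of k)) c := by
      intro c
      refine (eq_of_twist hL eO _ _ ?_).symm
      let φ : O ⟶ O := ObjectProperty.homMk (Formal.smulMod k O.obj c)
      have hn := η.hom.naturality φ
      simp only [Functor.comp_map, T] at hn
      change (Le.functor.map φ).hom ≫ η.hom.app O = η.hom.app O ≫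
        (DCoh.tensorRightMod L).map ((Scheme.Modules.pullback f.hom).map (Formal.smulMod k O.obj c)) at hn
      rw [hsmul, Formal.smulMod, Formal.smulMod, ← KLin.comp_smulModΓ] at hn
      replace hn := hn.trans (congrArg (fun t => η.hom.app O ≫ (DCoh.tensorRightMod L).map t)
        (H24Quot.pullback_map_smulModΓ f.hom O.obj (Coh.toGlobal (X ↘ Spec (.of k)) c)))
      have ht := (H16Derived.KFlat.Stalk.tensorRightModIso L).hom.naturality
        (Formal.smulModΓ ((Scheme.Modules.pullback f.hom).obj O.obj) (f.hom.appTop (Coh.toGlobal (X ↘ Spec (.of k)) c)))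
      change _ ≫ 𝟙 _ = 𝟙 _ ≫ _ at ht
      rw [Category.comp_id, Category.id_comp] at ht
      rw [ht] at hn
      exact ((cancel_epi (η.hom.app O)).1 hn).trans (VBPn.twist_map_smulModΓ L _ _)
    rw [Scheme.Hom.comp_appTop]
    refine ConcreteCategory.hom_ext _ _ fun r => ?_
    obtain ⟨c, rfl⟩ := (ConcreteCategory.bijective_of_isIso (Scheme.ΓSpecIso (CommRingCat.of k)).inv).2 r
    exact hsc c
  -- the automorphism fixes the points
  have hclosed : ∀ x : X, IsClosed ({x} : Set X) → f.hom.base x = x := fun x hx => by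
    haveI : IsClosedImmersion (X.fromSpecResidueField x) := isClosed_singleton_iff_isClosedImmersion.mp hx
    have hcoh : Coh.IsCoh (Sky.skyM x) := H10Coh.isCoh_push_of_isFinite _ _ (H10Coh.isCoh_structureModule' _)
    let s : CohCat X := ⟨Sky.skyM x, hcoh⟩
    obtain ⟨e₀⟩ := hfix x hx (hp _ hcoh)
    let eL : (Le.functor.obj s).obj ≅ Sky.skyM x := (DerivedCategory.singleFunctor X.Modules 0).preimageIso
      (c₁.app s ≪≫ (SGA6.perfP X).ι.mapIso e₀)
    have hsupp := H17.GabRos.support_iso (eL.symm ≪≫ η.app s)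
    have hpc : Coh.IsCoh ((Scheme.Modules.pullback f.hom).obj (Sky.skyM x)) := H17.ConsProp.isCoh_pullback f.hom hcoh
    have h2 : CohB1.support ((DCoh.tensorRightMod L).obj ((Scheme.Modules.pullback f.hom).obj (Sky.skyM x))) =
        f.hom.base ⁻¹' CohB1.support (Sky.skyM x) :=
      (H17.GabRos.support_iso ((H16Derived.KFlat.Stalk.tensorRightModIso L).app _)).trans
        ((H25Euler.support_tensor_invertible hpc hL).trans (LeadProper.support_pullback _ hcoh.1 hcoh.2 f.hom))
    have hx' : x ∈ CohB1.support (Sky.skyM x) := fun hsub => by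
      haveI : Subsingleton ((Sky.skyM x).presheaf.stalk x) := hsub
      exact (Sky.oneGerm_ne_zero (x := x)) (Subsingleton.elim _ _)
    have h3 : f.hom.base x ∈ CohB1.support (Sky.skyM x) := by
      exact (Set.ext_iff.1 (hsupp.trans h2) x).1 hx'
    by_contra hne
    exact Sky.support_skyM hx hne h3
  exact ⟨f, hk, fix_of_fix_closed f hclosed, L, hL, hp, ⟨c₁.symm ≪≫ Functor.isoWhiskerRight η _⟩⟩

end Groth.Agent.H02CA.CohAuto
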